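import Mathlib
import Groth.Agent.GrpdLib.FieldStabDim
import Groth.Agent.AlgSp.Diag
import Groth.Agent.AlgSpB.Open
import Groth.Agent.AlgSpD.EtaleTop

/-!
# Dimension of the arrows of a groupoid space over a field
-/

universe u

open CategoryTheory CategoryTheory.Limits AlgebraicGeometry Polynomial

set_option autoImplicit false
set_option backward.isDefEq.respectTransparency false
set_option backward.isDefEq.respectTransparency.types false

namespace Groth.Agent.AlgSpB.GpdDim

open Groth.Agent.GrpdLib.FieldStabDim (infinite_integral)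

variable (k : Type u) [Field k] (A : Type u) [CommRing A] [IsDomain A] [Algebra k A]

/-- A second structure map of a finitely generated domain over `k` agreeing with the first at a
rational point is equal to it. -/
theorem eq_algebraMap [Algebra.FiniteType k A] (τ : k →+* A) {K : Type u} [Field K] [Algebra k K]
    (ε : A →ₐ[k] K) (h : ∀ x, ε (τ x) = algebraMap k K x) (x : k) : τ x = algebraMap k A x := by
  have halg : ∀ q : k[X], q ≠ 0 → aeval (τ x) q = 0 → τ x = algebraMap k A x := by
    intro q hq hq0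
    have hint : IsIntegral k (τ x) := (IsAlgebraic.isIntegral ⟨q, hq, hq0⟩)
    have hirr := minpoly.irreducible hint
    have hroot : (minpoly k (τ x)).IsRoot x := by
      have := congrArg ε (minpoly.aeval k (τ x))
      rw [← aeval_algHom_apply, h, map_zero, aeval_algebraMap_apply, coe_aeval_eq_eval] at this
      exact (map_eq_zero _).1 this
    have hdeg := degree_eq_one_of_irreducible_of_root hirr hroot
    have e := minpoly.aeval k (τ x)
    rw [(minpoly.monic hint).eq_X_add_C (natDegree_eq_of_degree_eq_some hdeg)] at e hroot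
    simp only [IsRoot.def, eval_add, eval_X, eval_C] at hroot
    simp only [map_add, aeval_X, aeval_C] at e
    rw [eq_neg_of_add_eq_zero_left e, ← map_neg, ← eq_neg_of_add_eq_zero_left hroot]
  by_contra hne
  have htr : Function.Injective (aeval (R := k) (τ x)).toRingHom := by
    rw [injective_iff_map_eq_zero]
    intro q hq
    by_contra hq0
    exact hne (halg q hq0 hq)
  let φ : k[X] →ₐ[k] A := aeval (τ x)
  algebraize [φ.toRingHom]
  haveI : IsScalarTower k k[X] A := IsScalarTower.of_algebraMap_eq fun a => (φ.commutes a).symm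
  haveI : FaithfulSMul k[X] A := (faithfulSMul_iff_algebraMap_injective k[X] A).2 htr
  haveI : Algebra.FiniteType k[X] A := Algebra.FiniteType.of_restrictScalars_finiteType k k[X] A
  obtain ⟨hh, hh0, hD⟩ : ∃ hh : k[X], hh ≠ 0 ∧
      (PrimeSpectrum.basicOpen hh : Set (PrimeSpectrum k[X])) ⊆
        Set.range (PrimeSpectrum.comap (algebraMap k[X] A)) := by
    haveI : Algebra.FinitePresentation k[X] A := Algebra.FinitePresentation.of_finiteType.1 ‹_›
    haveI : Module.IsTorsionFree k[X] A := inferInstance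
    haveI : Module.Flat k[X] A := inferInstance
    have ho := (PrimeSpectrum.isOpenMap_comap_of_hasGoingDown_of_finitePresentation
      (R := k[X]) (S := A)).isOpen_range
    obtain ⟨z⟩ : Nonempty (PrimeSpectrum A) := inferInstance
    obtain ⟨_, ⟨hh, rfl⟩, hz, hsub⟩ :=
      PrimeSpectrum.isTopologicalBasis_basic_opens.exists_subset_of_mem_open
        (show PrimeSpectrum.comap (algebraMap k[X] A) z ∈ _ from Set.mem_range_self z) ho
    exact ⟨hh, fun h0 => by simp [h0] at hz, hsub⟩
  obtain ⟨y, hy, hyh⟩ : ∃ y : AlgebraicClosure k, IsIntegral ℤ y ∧ aeval y hh ≠ 0 := by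
    by_contra hcon
    refine infinite_integral (AlgebraicClosure k) (Set.Finite.subset
      (rootSet_finite hh (AlgebraicClosure k)) fun y hy => ?_)
    rw [mem_rootSet]
    exact ⟨hh0, by_contra fun h => hcon ⟨y, hy, h⟩⟩
  obtain ⟨q, hqm, hq⟩ := hy
  have hmem : (⟨RingHom.ker (aeval (R := k) y).toRingHom, RingHom.ker_isPrime _⟩ :
      PrimeSpectrum k[X]) ∈ (PrimeSpectrum.basicOpen hh : Set (PrimeSpectrum k[X])) := hyh
  obtain ⟨Q, hQ⟩ := hD hmem
  have hqQ : τ (q.eval₂ (Int.castRingHom k) x) ∈ Q.asIdeal := by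
    have h1 : (q.map (Int.castRingHom k)) ∈ RingHom.ker (aeval (R := k) y).toRingHom := by
      change aeval y (q.map (algebraMap ℤ k)) = 0
      rw [aeval_map_algebraMap]
      exact hq
    rw [show RingHom.ker (aeval (R := k) y).toRingHom =
      Q.asIdeal.comap (algebraMap k[X] A) from congrArg PrimeSpectrum.asIdeal hQ.symm] at h1
    have h2 : aeval (τ x) (q.map (Int.castRingHom k)) ∈ Q.asIdeal := h1
    rw [aeval_def, eval₂_map] at h2
    rw [hom_eval₂]
    convert h2 using 2
    exact RingHom.ext_int _ _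
  have hzero : q.eval₂ (Int.castRingHom k) x = 0 := by
    by_contra h0
    exact Q.isPrime.ne_top (Q.asIdeal.eq_top_of_isUnit_mem hqQ ((Ne.isUnit h0).map τ))
  refine hne (halg (q.map (Int.castRingHom k)) (hqm.map _).ne_zero ?_)
  rw [aeval_def, eval₂_map, show (algebraMap k A).comp (Int.castRingHom k) =
    τ.comp (Int.castRingHom k) from RingHom.ext_int _ _, ← hom_eval₂, hzero, map_zero]


omit k A in
/-- Krull dimension is tested on quotients by minimal primes. -/
theorem ringKrullDim_le_of_minimal {B : Type u} [CommRing B] {d : WithBot ℕ∞}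
    (h : ∀ P : Ideal B, P ∈ minimalPrimes B → ringKrullDim (B ⧸ P) ≤ d) : ringKrullDim B ≤ d := by
  refine iSup_le fun l => ?_
  obtain ⟨P, hP, hPl⟩ := Ideal.exists_minimalPrimes_le (bot_le (a := l.head.asIdeal))
  refine le_trans ?_ (h P hP)
  rw [ringKrullDim_quotient]
  have hmem : ∀ i, l.toFun i ∈ PrimeSpectrum.zeroLocus (R := B) P := fun i =>
    (PrimeSpectrum.mem_zeroLocus _ _).2 (hPl.trans (l.head_le i))
  exact Order.LTSeries.length_le_krullDim ⟨l.length, fun i => ⟨l.toFun i, hmem i⟩, fun i => l.step i⟩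

/-- A point of a locally Noetherian scheme has an affine neighbourhood all of whose irreducible components
pass through it. -/
theorem exists_affine_nhd {W : Scheme.{u}} [IsLocallyNoetherian W] (w : W) :
    ∃ (V : W.Opens) (hV : IsAffineOpen V) (hw : w ∈ V),
      ∀ P : Ideal Γ(W, V), P ∈ minimalPrimes Γ(W, V) → P ≤ (hV.primeIdealOf ⟨w, hw⟩).asIdeal := by
  obtain ⟨_, ⟨O, hO, rfl⟩, hwO, -⟩ := W.isBasis_affineOpens.exists_subset_of_mem_open (Set.mem_univ w) isOpen_univ
  let p := hO.primeIdealOf ⟨w, hwO⟩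
  have hN : IsNoetherianRing Γ(W, O) := IsLocallyNoetherian.component_noetherian ⟨O, hO⟩
  have hfin : {P ∈ minimalPrimes Γ(W, O) | ¬ P ≤ p.asIdeal}.Finite :=
    (minimalPrimes.finite_of_isNoetherianRing _).subset fun _ h => h.1
  have hex : ∀ P ∈ hfin.toFinset, ∃ x ∈ P, x ∉ p.asIdeal := fun P hP =>
    SetLike.not_le_iff_exists.1 ((hfin.mem_toFinset).1 hP).2
  choose x hxP hxp using hex
  let f := ∏ P : hfin.toFinset, x P.1 P.2
  have hfp : f ∉ p.asIdeal := by
    intro hf
    obtain ⟨P, -, hP⟩ := (p.isPrime.prod_mem_iff).1 hf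
    exact hxp P.1 P.2 hP
  have hwf : w ∈ W.basicOpen f := by
    have : p ∈ hO.fromSpec ⁻¹ᵁ W.basicOpen f := by
      rw [hO.fromSpec_preimage_basicOpen]
      exact hfp
    have e := hO.fromSpec_primeIdealOf ⟨w, hwO⟩
    change hO.fromSpec p ∈ W.basicOpen f at this
    rw [e] at this
    exact this
  have hV := hO.basicOpen f
  let r : Γ(W, O) →+* Γ(W, W.basicOpen f) := algebraMap _ _
  refine ⟨W.basicOpen f, hV, hwf, fun P hP => ?_⟩
  have := hO.isLocalization_basicOpen f
  have hPp : P.IsPrime := Ideal.minimalPrimes_isPrime hP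
  let q := hV.primeIdealOf ⟨w, hwf⟩
  have hq : q.asIdeal.comap r = p.asIdeal := by
    have e : PrimeSpectrum.comap r q = p := by
      apply hO.fromSpec.isOpenEmbedding.injective
      rw [hO.fromSpec_primeIdealOf]
      refine Eq.trans ?_ (hV.fromSpec_primeIdealOf ⟨w, hwf⟩)
      exact congrArg (fun k : Spec Γ(W, W.basicOpen f) ⟶ W => k q) (hO.map_fromSpec hV (homOfLE (W.basicOpen_le f)).op)
    exact congrArg PrimeSpectrum.asIdeal e
  have hfP : f ∉ P.comap r := fun h => hPp.ne_top
    (Ideal.eq_top_of_isUnit_mem _ h (IsLocalization.Away.algebraMap_isUnit f))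
  have hPc : (P.comap r).IsPrime := Ideal.IsPrime.comap r
  obtain ⟨P₀, hP₀, hP₀le⟩ := Ideal.exists_minimalPrimes_le (bot_le (a := P.comap r))
  have hP₀p : P₀ ≤ p.asIdeal := by
    by_contra hn
    have hm : P₀ ∈ hfin.toFinset := hfin.mem_toFinset.2 ⟨hP₀, hn⟩
    exact hfP (hP₀le (Ideal.mem_of_dvd _ (Finset.dvd_prod_of_mem (fun P : hfin.toFinset => x P.1 P.2)
      (Finset.mem_univ ⟨P₀, hm⟩)) (hxP P₀ hm)))
  have hP₀' : P₀.IsPrime := Ideal.minimalPrimes_isPrime hP₀
  have hdis : Disjoint (Submonoid.powers f : Set Γ(W, O)) P₀ := by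
    rw [Set.disjoint_left]
    rintro _ ⟨n, rfl⟩ hn
    exact hfP (hP₀le (hP₀'.mem_of_pow_mem n hn))
  have hle : P₀.map r ≤ P := Ideal.map_le_iff_le_comap.2 hP₀le
  have hprime : (P₀.map r).IsPrime := IsLocalization.isPrime_of_isPrime_disjoint _ _ _ hP₀' hdis
  refine ((hP.2 ⟨hprime, bot_le⟩ hle).trans (Ideal.map_le_iff_le_comap.2 ?_))
  exact hq.symm ▸ hP₀p

end Groth.Agent.AlgSpB.GpdDim
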